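import Cfsg.Agent.KFacts.MulSpor.AffAlt
import Cfsg.Agent.KFacts.MulDef
import Cfsg.Agent.KFacts.MulSpor.CoThreeTab
import Cfsg.Agent.Schreier.CoThreeCent

-- merged: Cfsg.Agent.KFacts.MulSpor.AffCarm
section

/-!
# No double cover: a subgroup `2^r . A_n` of odd index, given by relations

`Dat`: elements `f 0, …, f (2^r - 1)` of the finite group `X` forming an elementary abelian subgroup and elements
`x 0, …, x (m - 1)` that satisfy Carmichael's relations modulo the `f n`.  `Dat.noDouble`: such a group has no perfect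
double cover if `2 ^ r · |A_{m+2}|` is the order of `X` up to an odd factor, and some further relations hold.
-/

set_option autoImplicit false

namespace Cfsg.Agent.KFacts.MulSpor.AffCarm

open Subgroup Equiv
open Cfsg.Agent.KFacts.MulTwo Cfsg.Agent.KFacts.MulDef
open Cfsg.Agent.Lib.AltCarmichael

/-- Data: a subgroup `2 ^ r . A_{m + 2}` of odd index. -/
structure Dat {X : Type*} [Group X] (r m : ℕ) (f x : ℕ → X) (act sq : ℕ → ℕ → ℕ) : Prop where
  inj : ∀ n < 2 ^ r, ∀ k < 2 ^ r, f n = f k → n = k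
  mul : ∀ n < 2 ^ r, ∀ k < 2 ^ r, f n * f k = f (n ^^^ k)
  act_lt : ∀ i < m, ∀ n < 2 ^ r, act i n < 2 ^ r
  conj : ∀ i < m, ∀ n < 2 ^ r, x i * f n = f (act i n) * x i
  cube : ∀ i < m, x i ^ 3 = 1
  sq_lt : ∀ i < m, ∀ j < m, sq i j < 2 ^ r
  sq : ∀ i < m, ∀ j < m, i ≠ j → (x i * x j) ^ 2 = f (sq i j)
  fp : ∀ n < 2 ^ r, act 0 n = n → n = 0
  trans : ∀ n < 2 ^ r, n ≠ 0 → ∃ g : X, g * f 1 * g⁻¹ = f n
  inv : ∃ k < 2 ^ r, ∃ g, g * (x 0 * x 1 * f k) * g⁻¹ = f 1
  card : ∃ l, Nat.card X = 2 ^ r * Nat.card (alternatingGroup (Fin (m + 2))) * (2 * l + 1)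

namespace Dat

variable {X : Type*} [Group X] {r m : ℕ} {f x : ℕ → X} {act sq : ℕ → ℕ → ℕ} (H : Dat r m f x act sq)
include H

theorem f_zero : f 0 = 1 := by
  have h := H.mul 0 (Nat.two_pow_pos r) 0 (Nat.two_pow_pos r)
  rw [Nat.xor_self] at h
  exact mul_eq_left.1 h

theorem f_sq {n : ℕ} (hn : n < 2 ^ r) : f n * f n = 1 := by
  rw [H.mul n hn n hn, Nat.xor_self, H.f_zero]

/-- the elementary abelian subgroup -/
def E : Subgroup X where
  carrier := {g | ∃ n < 2 ^ r, g = f n}
  one_mem' := ⟨0, Nat.two_pow_pos r, H.f_zero.symm⟩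
  mul_mem' := by
    rintro _ _ ⟨n, hn, rfl⟩ ⟨k, hk, rfl⟩
    exact ⟨n ^^^ k, Nat.xor_lt_two_pow hn hk, H.mul n hn k hk⟩
  inv_mem' := by
    rintro _ ⟨n, hn, rfl⟩
    exact ⟨n, hn, inv_eq_of_mul_eq_one_left (H.f_sq hn)⟩

theorem mem_E {g : X} : g ∈ H.E ↔ ∃ n < 2 ^ r, g = f n := Iff.rfl

theorem f_mem {n : ℕ} (hn : n < 2 ^ r) : f n ∈ H.E := ⟨n, hn, rfl⟩

theorem E_sq {a : X} (ha : a ∈ H.E) : a * a = 1 := by
  obtain ⟨n, hn, rfl⟩ := ha
  exact H.f_sq hn

theorem E_comm {a b : X} (ha : a ∈ H.E) (hb : b ∈ H.E) : a * b = b * a := by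
  obtain ⟨n, hn, rfl⟩ := ha
  obtain ⟨k, hk, rfl⟩ := hb
  rw [H.mul n hn k hk, H.mul k hk n hn, Nat.xor_comm]

theorem card_E : Nat.card H.E = 2 ^ r := by
  let g : Fin (2 ^ r) → H.E := fun i => ⟨f i, H.f_mem i.2⟩
  have hg : Function.Bijective g := by
    constructor
    · intro i j hij
      exact Fin.ext (H.inj i i.2 j j.2 (congrArg Subtype.val hij))
    · rintro ⟨_, n, hn, rfl⟩
      exact ⟨⟨n, hn⟩, rfl⟩
  rw [← Nat.card_congr (Equiv.ofBijective g hg), Nat.card_eq_fintype_card, Fintype.card_fin]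

theorem x_conj {i : ℕ} (hi : i < m) {a : X} (ha : a ∈ H.E) : x i * a * (x i)⁻¹ ∈ H.E := by
  obtain ⟨n, hn, rfl⟩ := ha
  rw [H.conj i hi n hn, mul_inv_cancel_right]
  exact H.f_mem (H.act_lt i hi n hn)

theorem x_inv {i : ℕ} (hi : i < m) : (x i)⁻¹ = x i * x i := by
  rw [inv_eq_iff_mul_eq_one, ← mul_assoc, ← pow_two, ← pow_succ, H.cube i hi]

/-- the subgroup of odd index -/
def N (_ : Dat r m f x act sq) : Subgroup X := closure ({g | ∃ n < 2 ^ r, g = f n} ∪ {g | ∃ i < m, g = x i})

theorem E_le : H.E ≤ H.N := fun _ hg => subset_closure (Or.inl hg)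

theorem x_mem {i : ℕ} (hi : i < m) : x i ∈ H.N := subset_closure (Or.inr ⟨i, hi, rfl⟩)

theorem N_norm {g : X} (hg : g ∈ H.N) : ∀ a ∈ H.E, g * a * g⁻¹ ∈ H.E := by
  induction hg using closure_induction with
  | mem g hg =>
    rcases hg with hg | ⟨i, hi, rfl⟩
    · intro a ha
      exact mul_mem (mul_mem hg ha) (inv_mem hg)
    · exact fun a ha => H.x_conj hi ha
  | one => intro a ha; simpa using ha
  | mul g k _ _ hg hk =>
    intro a ha
    have : g * k * a * (g * k)⁻¹ = g * (k * a * k⁻¹) * g⁻¹ := by group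
    rw [this]
    exact hg _ (hk _ ha)
  | inv g hg' hg =>
    -- conjugation by `g` is injective on the finite set `E`
    have hfin : Finite H.E := Nat.finite_of_card_ne_zero (by rw [H.card_E]; positivity)
    let c : H.E → H.E := fun a => ⟨g * a * g⁻¹, hg a a.2⟩
    have hc : Function.Injective c := by
      intro a b hab
      have : g * a * g⁻¹ = g * b * g⁻¹ := congrArg Subtype.val hab
      exact Subtype.ext (mul_left_cancel (mul_right_cancel this))
    intro a ha
    obtain ⟨b, hb⟩ := (Finite.injective_iff_surjective.1 hc) ⟨a, ha⟩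
    have hb' : g * b * g⁻¹ = a := congrArg Subtype.val hb
    have : g⁻¹ * a * g⁻¹⁻¹ = b := by rw [← hb']; group
    rw [this]
    exact b.2

theorem normal : (H.E.subgroupOf H.N).Normal := ⟨fun n hn g =>
  mem_subgroupOf.2 (H.N_norm g.2 n (mem_subgroupOf.1 hn))⟩

theorem x_not_mem (hr : 1 ≤ r) (hm : 1 ≤ m) : x 0 ∉ H.E := by
  intro h
  have h1 : (1 : ℕ) < 2 ^ r := Nat.one_lt_two_pow (by omega)
  have h2 := H.E_comm h (H.f_mem h1)
  rw [H.conj 0 (by omega) 1 h1] at h2
  have h3 := H.inj _ (H.act_lt 0 (by omega) 1 h1) _ h1 (mul_right_cancel h2)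
  have := H.fp 1 h1 h3
  omega

/-- The homomorphism onto the alternating group. -/
theorem exists_rho (hr : 1 ≤ r) (hm : 3 ≤ m) : ∃ ρ : H.N →* alternatingGroup (Fin (m + 2)), Function.Surjective ρ ∧
    (∀ g : H.N, ρ g = 1 ↔ (g : X) ∈ H.E) ∧ ∀ i (hi : i < m), ρ ⟨x i, H.x_mem hi⟩ = ⟨cyc m i, cyc_mem m i hi⟩ := by
  classical
  have hn := H.normal
  let q : H.N →* H.N ⧸ (H.E.subgroupOf H.N) := QuotientGroup.mk' _
  have hq : ∀ g : H.N, q g = 1 ↔ (g : X) ∈ H.E := fun g => by
    show (QuotientGroup.mk g : H.N ⧸ (H.E.subgroupOf H.N)) = 1 ↔ _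
    rw [QuotientGroup.eq_one_iff]; exact mem_subgroupOf
  let y : ℕ → H.N ⧸ (H.E.subgroupOf H.N) := fun i => if hi : i < m then q ⟨x i, H.x_mem hi⟩ else 1
  have hy : ∀ i (hi : i < m), y i = q ⟨x i, H.x_mem hi⟩ := fun i hi => dif_pos hi
  have hrel : Rel m y := by
    constructor
    · intro i hi
      rw [hy i hi, ← map_pow, hq]
      show x i ^ 3 ∈ H.E
      rw [H.cube i hi]; exact one_mem _
    · intro i hi j hj hij
      rw [hy i hi, hy j hj, ← map_mul, ← map_pow, hq]
      show (x i * x j) ^ 2 ∈ H.E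
      rw [H.sq i hi j hj hij]
      exact H.f_mem (H.sq_lt i hi j hj)
  obtain ⟨φ, hφ⟩ := exists_hom (by omega) hrel
  have hsimple : IsSimpleGroup (alternatingGroup (Fin (m + 2))) :=
    alternatingGroup.isSimpleGroup (by rw [Nat.card_eq_fintype_card, Fintype.card_fin]; omega)
  have hinj : Function.Injective φ := by
    rw [← MonoidHom.ker_eq_bot_iff]
    rcases (inferInstance : φ.ker.Normal).eq_bot_or_eq_top with hb | ht
    · exact hb
    · exfalso
      have h1 : (⟨cyc m 0, cyc_mem m 0 (by omega)⟩ : alternatingGroup (Fin (m + 2))) ∈ φ.ker := by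
        rw [ht]; exact mem_top _
      have h2 : y 0 = 1 := by rw [← hφ 0 (by omega)]; exact h1
      rw [hy 0 (by omega), hq] at h2
      exact H.x_not_mem hr (by omega) h2
  have hsurj : ∀ g (hg : g ∈ H.N), q ⟨g, hg⟩ ∈ φ.range := by
    intro g hg
    induction hg using closure_induction with
    | mem g hg =>
      rcases hg with hg | ⟨i, hi, rfl⟩
      · have h1 : q ⟨g, subset_closure (Or.inl hg)⟩ = 1 := (hq _).2 hg
        rw [h1]; exact one_mem _
      · exact ⟨_, (hφ i hi).trans (hy i hi)⟩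
    | one =>
      have h1 : q ⟨1, one_mem _⟩ = 1 := (hq _).2 (one_mem _)
      rw [h1]; exact one_mem _
    | mul a b ha hb h1 h2 =>
      have h3 : q ⟨a * b, mul_mem ha hb⟩ = q ⟨a, ha⟩ * q ⟨b, hb⟩ := by rw [← map_mul]; rfl
      rw [h3]; exact mul_mem h1 h2
    | inv a ha h1 =>
      have h3 : q ⟨a⁻¹, inv_mem ha⟩ = (q ⟨a, ha⟩)⁻¹ := by rw [← map_inv]; rfl
      rw [h3]; exact inv_mem h1
  have hsurj' : Function.Surjective φ := by
    intro z
    induction z using QuotientGroup.induction_on with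
    | H g => exact hsurj g g.2
  let e : alternatingGroup (Fin (m + 2)) ≃* H.N ⧸ (H.E.subgroupOf H.N) := MulEquiv.ofBijective φ ⟨hinj, hsurj'⟩
  refine ⟨e.symm.toMonoidHom.comp q, ?_, ?_, ?_⟩
  · exact e.symm.surjective.comp (QuotientGroup.mk'_surjective _)
  · intro g
    rw [← hq]
    exact e.symm.map_eq_one_iff
  · intro i hi
    show e.symm (q ⟨x i, H.x_mem hi⟩) = _
    rw [MulEquiv.symm_apply_eq, ← hy i hi]
    exact (hφ i hi).symm

theorem card_N (hr : 1 ≤ r) (hm : 3 ≤ m) : Nat.card H.N = 2 ^ r * Nat.card (alternatingGroup (Fin (m + 2))) := by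
  obtain ⟨ρ, hs, hk, -⟩ := H.exists_rho hr hm
  have h1 : Nat.card ρ.ker * Nat.card (alternatingGroup (Fin (m + 2))) = Nat.card H.N := by
    rw [← (ρ.ker).card_mul_index, index_ker, MonoidHom.range_eq_top.2 hs, card_top]
  have h2 : ρ.ker = H.E.subgroupOf H.N := by
    ext g
    rw [MonoidHom.mem_ker, hk, mem_subgroupOf]
  rw [← h1, h2, Nat.card_congr (subgroupOfEquivOfLe H.E_le).toEquiv, H.card_E]

theorem not_dvd_index (hr : 1 ≤ r) (hm : 3 ≤ m) : ¬ 2 ∣ H.N.index := by
  obtain ⟨l, hl⟩ := H.card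
  have h1 := H.N.card_mul_index
  rw [hl, H.card_N hr hm] at h1
  have h2 : 0 < 2 ^ r * Nat.card (alternatingGroup (Fin (m + 2))) := Nat.mul_pos (Nat.two_pow_pos r) Nat.card_pos
  have h3 := Nat.eq_of_mul_eq_mul_left h2 h1
  omega

/-! ### The double cover -/

variable {L : Type*} [Group L] {π : L →* X} {c : L}

omit H in
theorem mem_closure_cases {G : Type*} [Group G] {u v w : G} (hu : u * u = 1) (hv : v * v = 1) (huv : u * v = v * u)
    (hw : w ∈ closure ({u, v, 1} : Set G)) : w = 1 ∨ w = u ∨ w = v ∨ w = u * v := by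
  have hui : u⁻¹ = u := inv_eq_of_mul_eq_one_left hu
  have hvi : v⁻¹ = v := inv_eq_of_mul_eq_one_left hv
  induction hw using closure_induction with
  | mem x hx =>
    rcases hx with rfl | rfl | rfl
    · exact Or.inr (Or.inl rfl)
    · exact Or.inr (Or.inr (Or.inl rfl))
    · exact Or.inl rfl
  | one => exact Or.inl rfl
  | mul x y _ _ hx hy =>
    have e1 : u * (u * v) = v := by rw [← mul_assoc, hu, one_mul]
    have e2 : v * (u * v) = u := by rw [huv, ← mul_assoc, hv, one_mul]
    have e3 : u * v * u = v := by rw [huv, mul_assoc, hu, mul_one]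
    have e4 : u * v * v = u := by rw [mul_assoc, hv, mul_one]
    have e5 : u * v * (u * v) = 1 := by rw [← mul_assoc, e3, hv]
    rcases hx with rfl | rfl | rfl | rfl <;> rcases hy with rfl | rfl | rfl | rfl <;>
      simp only [one_mul, mul_one, hu, hv, e1, e2, e3, e4, e5, ← huv, true_or, or_true]
  | inv x _ hx =>
    rcases hx with rfl | rfl | rfl | rfl
    · simp
    · rw [hui]; simp
    · rw [hvi]; simp
    · right; right; right
      rw [mul_inv_rev, hui, hvi, huv]

theorem sqA (hr : 3 ≤ r) (hd : Dbl π c) : ∀ a ∈ H.E.comap π, a * a = 1 := by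
  classical
  have hc : π c = 1 := (hd.ker c).2 (Or.inr rfl)
  have key : ∀ a ∈ H.E.comap π, ∀ b ∈ H.E.comap π, ∃ d ∈ H.E.comap π, d ∉ closure ({a, b, c} : Set L) := by
    intro a ha b hb
    obtain ⟨k, hk, hk'⟩ : ∃ k ∈ H.E, k ∉ closure ({π a, π b, 1} : Set X) := by
      by_contra hno
      push Not at hno
      have h1 : (H.E : Set X) ⊆ (({1, π a, π b, π a * π b} : Finset X) : Set X) := by
        intro k hk
        have := mem_closure_cases (H.E_sq ha) (H.E_sq hb) (H.E_comm ha hb) (hno k hk)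
        simpa using this
      have h2 := Set.ncard_le_ncard h1 (Finset.finite_toSet _)
      rw [Set.ncard_coe_finset] at h2
      have h3 : (H.E : Set X).ncard = 2 ^ r := H.card_E
      have h4 := Finset.card_le_four (a := (1 : X)) (b := π a) (c := π b) (d := π a * π b)
      have h5 : 2 ^ 3 ≤ 2 ^ r := Nat.pow_le_pow_right (by norm_num) hr
      omega
    obtain ⟨d, rfl⟩ := hd.surj k
    refine ⟨d, hk, fun hdc => hk' ?_⟩
    have h1 : π d ∈ (closure ({a, b, c} : Set L)).map π := mem_map_of_mem _ hdc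
    rwa [MonoidHom.map_closure, Set.image_insert_eq, Set.image_insert_eq, Set.image_singleton, hc] at h1
  have htr : ∀ n < 2 ^ r, n ≠ 0 → ∀ k < 2 ^ r, k ≠ 0 → ∃ g : X, g * f n * g⁻¹ = f k := by
    intro n hn hn0 k hk hk0
    obtain ⟨g, hg⟩ := H.trans n hn hn0
    obtain ⟨g', hg'⟩ := H.trans k hk hk0
    refine ⟨g' * g⁻¹, ?_⟩
    rw [← hg, ← hg']; group
  refine sq_eq_one_of_trans (P := ⊤) hd.ne hd.cen hd.sq (show π c ∈ H.E by rw [hc]; exact one_mem _) ?_ ?_ key ?_
  · intro a ha
    rw [← hd.ker, map_mul]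
    exact H.E_sq ha
  · intro a ha b hb ha1 hac hb1 hbc
    obtain ⟨n, hn, han⟩ := ha
    obtain ⟨k, hk, hbk⟩ := hb
    have hn0 : n ≠ 0 := by
      rintro rfl
      have : π a = 1 := han.trans H.f_zero
      exact ((hd.ker a).1 this).elim ha1 hac
    have hk0 : k ≠ 0 := by
      rintro rfl
      have : π b = 1 := hbk.trans H.f_zero
      exact ((hd.ker b).1 this).elim hb1 hbc
    obtain ⟨g, hg⟩ := htr n hn hn0 k hk hk0
    obtain ⟨g, rfl⟩ := hd.surj g
    refine ⟨g, mem_top _, ?_⟩
    have h1 : π (b⁻¹ * (g * a * g⁻¹)) = 1 := by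
      rw [map_mul, map_mul, map_mul, map_inv, map_inv]
      change π a = f n at han
      change π b = f k at hbk
      rw [han, hbk, hg, inv_mul_cancel]
    rcases (hd.ker _).1 h1 with h2 | h2
    · left; exact (inv_mul_eq_one.1 h2).symm
    · right; rw [← h2]; group
  · intro a ha
    obtain ⟨d, hd, hd'⟩ := key a ha a ha
    refine ⟨d, hd, fun h => hd' ?_⟩
    rwa [Set.insert_eq_of_mem (Set.mem_insert a {c})]

/-- **No double cover.** -/
theorem false [Finite L] (hr : 3 ≤ r) (hm : 6 ≤ m) (hd : Dbl π c) : False := by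
  classical
  obtain ⟨ρ₀, hs, hk, hx⟩ := H.exists_rho (by omega) (by omega)
  have hc : π c = 1 := (hd.ker c).2 (Or.inr rfl)
  let πN : H.N.comap π →* H.N := π.subgroupComap H.N
  have hπN : ∀ g : H.N.comap π, ((πN g : H.N) : X) = π g := fun g => rfl
  have hπs : Function.Surjective πN := by
    rintro ⟨y, hy⟩
    obtain ⟨g, rfl⟩ := hd.surj y
    exact ⟨⟨g, hy⟩, rfl⟩
  let ρ : H.N.comap π →* alternatingGroup (Fin (m + 2)) := ρ₀.comp πN
  have hρ : ∀ g, ρ g = ρ₀ (πN g) := fun g => rfl
  have hρs : Function.Surjective ρ := hs.comp hπs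
  have hcyc : ∀ i (hi : i < m), (cyc m i).IsThreeCycle := by
    intro i hi
    rw [cyc_def]
    have h1 : Fin.ofNat (m + 2) i ≠ Fin.ofNat (m + 2) m := ofNat_ne (by omega) (by omega) (by omega)
    have h2 : Fin.ofNat (m + 2) i ≠ Fin.ofNat (m + 2) (m + 1) := ofNat_ne (by omega) (by omega) (by omega)
    have h3 : Fin.ofNat (m + 2) m ≠ Fin.ofNat (m + 2) (m + 1) := ofNat_ne (by omega) (by omega) (by omega)
    rw [swap_comm (Fin.ofNat (m + 2) i)]
    exact Perm.isThreeCycle_swap_mul_swap_same h1.symm h3 h2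
  have hsqA := H.sqA hr hd
  have HA : AffAlt.Aff c (H.N.comap π) (H.E.comap π) ρ := by
    refine ⟨?_, ?_, ?_, ?_, ?_, hsqA, ?_, ?_⟩
    · rw [index_comap_of_surjective _ hd.surj]
      exact H.not_dvd_index (by omega) (by omega)
    · show π c ∈ H.E
      rw [hc]; exact one_mem _
    · exact comap_mono H.E_le
    · intro g
      rw [hρ, hk]; rfl
    · exact hρs
    · -- fixed points
      intro d hd3 a ha hda
      obtain ⟨k, hk3⟩ := isConj_iff.1 (alternatingGroup.isThreeCycle_isConj
        (by rw [Nat.card_eq_fintype_card, Fintype.card_fin]; omega) hd3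
        (τ := ⟨cyc m 0, cyc_mem m 0 (by omega)⟩) (hcyc 0 (by omega)))
      obtain ⟨g, rfl⟩ := hρs k
      -- the conjugated elements
      have h1 : ρ₀ (πN (g * d * g⁻¹) * (⟨x 0, H.x_mem (by omega)⟩ : H.N)⁻¹) = 1 := by
        rw [map_mul, map_inv, ← hρ, hx 0 (by omega), map_mul, map_mul, map_inv, hk3, mul_inv_cancel]
      rw [hk] at h1
      have h2 : π (g * d * (g : L)⁻¹) * (x 0)⁻¹ ∈ H.E := h1
      have h3 : π (g * a * (g : L)⁻¹) ∈ H.E := by
        have := H.N_norm (g := π (g : L)) g.2 (π a) ha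
        rwa [map_mul, map_mul, map_inv]
      have h4 : (g * d * (g : L)⁻¹) * (g * a * (g : L)⁻¹) * (g * d * (g : L)⁻¹)⁻¹ = g * a * (g : L)⁻¹ := by
        calc (g * d * (g : L)⁻¹) * (g * a * (g : L)⁻¹) * (g * d * (g : L)⁻¹)⁻¹
            = g * (d * a * (d : L)⁻¹) * (g : L)⁻¹ := by group
          _ = _ := by rw [hda]
      obtain ⟨n, hn, hfn⟩ := h3
      have h5 := congrArg π h4
      rw [map_mul, map_mul, map_inv, hfn] at h5
      set z := π (g * d * (g : L)⁻¹) with hz
      have h6 : z = (z * (x 0)⁻¹) * x 0 := by group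
      have h7 : (z * (x 0)⁻¹) * f (act 0 n) * (z * (x 0)⁻¹)⁻¹ = f n := by
        calc (z * (x 0)⁻¹) * f (act 0 n) * (z * (x 0)⁻¹)⁻¹
            = (z * (x 0)⁻¹) * (f (act 0 n) * x 0) * z⁻¹ := by group
          _ = (z * (x 0)⁻¹) * (x 0 * f n) * z⁻¹ := by rw [H.conj 0 (by omega) n hn]
          _ = z * f n * z⁻¹ := by group
          _ = f n := h5
      rw [H.E_comm h2 (H.f_mem (H.act_lt 0 (by omega) n hn)), mul_inv_cancel_right] at h7
      have h8 := H.fp n hn (H.inj _ (H.act_lt 0 (by omega) n hn) _ hn h7)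
      subst h8
      rw [H.f_zero] at hfn
      have h9 : π a = 1 := by
        rw [map_mul, map_mul, map_inv] at hfn
        calc π a = (π (g : L))⁻¹ * (π g * π a * (π (g : L))⁻¹) * π g := by group
          _ = 1 := by rw [hfn]; group
      exact (hd.ker a).1 h9
    · -- the involution
      obtain ⟨k, hk', g, hg⟩ := H.inv
      have hm1 : (1 : ℕ) < 2 ^ r := Nat.one_lt_two_pow (by omega)
      obtain ⟨g, rfl⟩ := hd.surj g
      obtain ⟨u, hu⟩ := hd.surj (f 1)
      have huA : u ∈ H.E.comap π := by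
        show π u ∈ H.E
        rw [hu]; exact H.f_mem hm1
      have hxk : x 0 * x 1 * f k ∈ H.N :=
        mul_mem (mul_mem (H.x_mem (by omega)) (H.x_mem (by omega))) (H.E_le (H.f_mem hk'))
      have hv : π (g⁻¹ * u * g) = x 0 * x 1 * f k := by
        rw [map_mul, map_mul, map_inv, hu, ← hg]; group
      refine ⟨⟨g⁻¹ * u * g, show π _ ∈ H.N by rw [hv]; exact hxk⟩, ?_, ?_⟩
      · apply Subtype.ext
        show g⁻¹ * u * g * (g⁻¹ * u * g) = 1
        have : g⁻¹ * u * g * (g⁻¹ * u * g) = g⁻¹ * (u * u) * g := by group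
        rw [this, hsqA u huA]; group
      · refine ⟨_, _, _, _, ofNat_ne (m := m) (i := 0) (j := m) (by omega) (by omega) (by omega),
          ofNat_ne (m := m) (i := 0) (j := 1) (by omega) (by omega) (by omega),
          ofNat_ne (m := m) (i := 0) (j := m + 1) (by omega) (by omega) (by omega),
          ofNat_ne (m := m) (i := m) (j := 1) (by omega) (by omega) (by omega),
          ofNat_ne (m := m) (i := m) (j := m + 1) (by omega) (by omega) (by omega),
          ofNat_ne (m := m) (i := 1) (j := m + 1) (by omega) (by omega) (by omega), ?_⟩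
        rw [← AffAlt.cyc_mul_cyc (by omega), hρ]
        have h1 : πN ⟨g⁻¹ * u * g, show π _ ∈ H.N by rw [hv]; exact hxk⟩ =
            (⟨x 0, H.x_mem (by omega)⟩ : H.N) * ⟨x 1, H.x_mem (by omega)⟩ * ⟨f k, H.E_le (H.f_mem hk')⟩ :=
          Subtype.ext hv
        rw [h1, map_mul, map_mul, hx 0 (by omega), hx 1 (by omega), (hk ⟨f k, _⟩).2 (H.f_mem hk'), mul_one]
        rfl
  exact HA.false hd.toCtr hm

theorem noDouble (hr : 3 ≤ r) (hm : 6 ≤ m) : NoDouble X := fun _ _ _ _ _ hd => H.false hr hm hd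

end Dat

end Cfsg.Agent.KFacts.MulSpor.AffCarm

end

-- merged: Cfsg.Agent.KFacts.MulSpor.CoThree
section

/-!
# The Schur multiplier of Conway's group Co3 has odd order

`noDouble : NoDouble Cfsg.Spor.Co3`, from the subgroup `2^4 . A_8` of odd index (`AffCarm`).
-/

set_option autoImplicit false

namespace Cfsg.Agent.KFacts.MulSpor.CoThree

open Cfsg.Agent.SporadicStructure.PermChain Cfsg.Agent.McLType.Chain Cfsg.Agent.Schreier.CoThreeGens
open Cfsg.Agent.KFacts.MulSpor.CoThreeTab Cfsg.Agent.KFacts.MulDef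
open Cfsg.Agent.LeechPack.X552 Cfsg.Agent.Schreier.CoThreeCent

/-! ### Elements described by tables -/

section el

variable {w m : ℕ} {K : Subgroup (Equiv.Perm (Fin m))} {ts : List ℕ} (hT : ∀ t ∈ ts, InK w K t)

open Classical in
/-- The element of `K` with the table number `k`. -/
noncomputable def el (k : ℕ) : K :=
  if h : k < ts.length then ⟨(hT _ (List.getElem_mem h)).choose, (hT _ (List.getElem_mem h)).choose_spec.1⟩ else 1

theorem el_val {k : ℕ} (h : k < ts.length) (p : Fin m) :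
    (((el hT k : K) : Equiv.Perm (Fin m)) p : ℕ) = look w (ts.getD k 0) p := by
  have e : el hT k = ⟨(hT _ (List.getElem_mem h)).choose, (hT _ (List.getElem_mem h)).choose_spec.1⟩ := dif_pos h
  rw [e, List.getD_eq_getElem _ _ h]
  exact (hT _ (List.getElem_mem h)).choose_spec.2 p

theorem prod_val (l : List ℕ) (hl : ∀ s ∈ l, s < ts.length) (p : Fin m) :
    ((((l.map (el hT)).prod : K) : Equiv.Perm (Fin m)) p : ℕ) = evalWord w ts l p := by
  have h1 : (((l.map (el hT)).prod : K) : Equiv.Perm (Fin m)) =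
      (l.map fun k => ((el hT k : K) : Equiv.Perm (Fin m))).prod := by
    induction l with
    | nil => rfl
    | cons s l ih =>
      rw [List.map_cons, List.prod_cons, List.map_cons, List.prod_cons, Subgroup.coe_mul,
        ih fun s hs => hl s (List.mem_cons_of_mem _ hs)]
  rw [h1]
  exact evalWord_spec ts (fun k => ((el hT k : K) : Equiv.Perm (Fin m))) l (fun s hs p => el_val hT (hl s hs) p) p

theorem prod_eq {l l' : List ℕ} (hl : ∀ s ∈ l, s < ts.length) (hl' : ∀ s ∈ l', s < ts.length)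
    (h : allBelow (fun p => Nat.beq (evalWord w ts l p) (evalWord w ts l' p)) m = true) :
    (l.map (el hT)).prod = (l'.map (el hT)).prod := by
  apply Subtype.ext
  apply Equiv.ext
  intro p
  apply Fin.ext
  rw [prod_val hT l hl, prod_val hT l' hl']
  exact Nat.eq_of_beq_eq_true (allBelow_spec _ _ h p p.2)

end el

/-! ### The relations -/

theorem blt_of {a b : ℕ} (h : Nat.blt a b = true) : a < b := by rwa [Nat.blt_eq] at h

theorem beq_of {a b : ℕ} (h : a = b) : Nat.beq a b = true := by rw [h]; exact Nat.beq_refl b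

/-- The elements. -/
noncomputable def e (k : ℕ) : K0 := el inT k

theorem rel {l l' : List ℕ} (h : same l l' = true) : (l.map e).prod = (l'.map e).prod := by
  unfold same at h
  rw [Bool.and_eq_true, Bool.and_eq_true, List.all_eq_true, List.all_eq_true] at h
  exact prod_eq inT (fun s hs => blt_of (h.1.1 s hs)) (fun s hs => blt_of (h.1.2 s hs)) h.2

theorem below {p : ℕ → Bool} {n : ℕ} (h : allBelow p n = true) {x : ℕ} (hx : x < n) : p x = true :=
  allBelow_spec p n h x hx

theorem dat (hcard : ∃ l, Nat.card K0 = 2 ^ 4 * Nat.card (alternatingGroup (Fin (6 + 2))) * (2 * l + 1)) :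
    AffCarm.Dat 4 6 e (fun i => e (16 + i)) act sqr where
  inj := by
    intro n hn k hk h
    have h1 := below (below chk_inj hn) hk
    have hn' : n < T.length := lt_of_lt_of_le hn (by decide)
    have hk' : k < T.length := lt_of_lt_of_le hk (by decide)
    have h2 : Nat.beq (evalWord 10 T [n] 0) (evalWord 10 T [k] 0) = true := by
      have e1 := el_val inT hn' 0
      have e2 := el_val inT hk' 0
      have e3 : el inT n = el inT k := h
      rw [e3] at e1
      have e4 : look 10 (T.getD n 0) ((0 : Fin 552) : ℕ) = look 10 (T.getD k 0) ((0 : Fin 552) : ℕ) :=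
        e1.symm.trans e2
      exact beq_of e4
    simp only [h2, Bool.not_true, Bool.false_or] at h1
    exact Nat.eq_of_beq_eq_true h1
  mul := by
    intro n hn k hk
    have := rel (below (below chk_mul hn) hk)
    simpa using this
  act_lt := by
    intro i hi n hn
    have := below (below chk_conj hi) hn
    rw [Bool.and_eq_true] at this
    exact blt_of this.2
  conj := by
    intro i hi n hn
    have h1 := below (below chk_conj hi) hn
    rw [Bool.and_eq_true] at h1
    have := rel h1.1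
    simpa using this
  cube := by
    intro i hi
    have := rel (below chk_cube hi)
    simp only [List.map_cons, List.map_nil, List.prod_cons, List.prod_nil, mul_one] at this
    rw [pow_succ, pow_two, mul_assoc]
    exact this
  sq_lt := by
    intro i hi j hj
    have := below (below chk_sq hi) hj
    rw [Bool.and_eq_true] at this
    exact blt_of this.2
  sq := by
    intro i hi j hj hij
    have h1 := below (below chk_sq hi) hj
    rw [Bool.and_eq_true, Bool.or_eq_true] at h1
    have h2 : same [16 + i, 16 + j, 16 + i, 16 + j] [sqr i j] = true :=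
      h1.1.resolve_left fun h => hij (Nat.eq_of_beq_eq_true h)
    have := rel h2
    simp only [List.map_cons, List.map_nil, List.prod_cons, List.prod_nil, mul_one] at this
    rw [pow_two, mul_assoc]
    exact this
  fp := by
    intro n hn h
    have h1 := below chk_fp hn
    rw [h] at h1
    have h2 : Nat.beq n n = true := Nat.beq_refl n
    simp only [h2, Bool.not_true, Bool.false_or] at h1
    exact Nat.eq_of_beq_eq_true h1
  trans := by
    intro n hn hn0
    have h1 := below chk_trans hn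
    rw [Bool.or_eq_true] at h1
    have h2 := rel (h1.resolve_left fun h => hn0 (Nat.eq_of_beq_eq_true h))
    refine ⟨((tw.getD n []).map e).prod, ?_⟩
    rw [List.map_append, List.prod_append, List.map_cons, List.prod_cons, List.map_cons, List.map_nil,
      List.prod_nil, mul_one, List.prod_cons] at h2
    rw [h2, mul_inv_cancel_right]
  inv := by
    refine ⟨1, by norm_num, e 22, ?_⟩
    have := rel chk_inv
    simp only [List.map_cons, List.map_nil, List.prod_cons, List.prod_nil, mul_one] at this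
    show e 22 * (e 16 * e 17 * e 1) * (e 22)⁻¹ = e 1
    rw [mul_inv_eq_iff_eq_mul, ← this]
    group
  card := hcard

theorem card_alt : Nat.card (alternatingGroup (Fin (6 + 2))) = 20160 := by
  have : Nontrivial (Fin (6 + 2)) := ⟨⟨0, 1, by decide⟩⟩
  have h := two_mul_card_alternatingGroup (α := Fin (6 + 2))
  rw [Fintype.card_perm, Fintype.card_fin] at h
  rw [Nat.card_eq_fintype_card]
  have h2 : (6 + 2).factorial = 40320 := by decide
  omega

theorem card_K0 : Nat.card K0 = 495766656000 := by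
  rw [K0_eq]; exact card_range

theorem noDouble_K0 : NoDouble K0 :=
  (dat ⟨768487, by rw [card_K0, card_alt]; norm_num⟩).noDouble (by norm_num) (by norm_num)

theorem noDouble_G3 : NoDouble G3 := by
  have h : NoDouble ψ.range := by rw [← K0_eq]; exact noDouble_K0
  exact h.congr (MonoidHom.ofInjective ψ_injective).symm

/-- **The multiplier of Co3 has odd order.** -/
theorem noDouble : NoDouble Cfsg.Spor.Co3 := by
  obtain ⟨i⟩ := isoCo3_G3
  exact noDouble_G3.congr i

/-- No double cover for every group isomorphic to Co3. -/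
theorem noDouble_of_iso {G : Type*} [Group G] (h : Cfsg.Spor.IsoCo3 G) : NoDouble G := by
  obtain ⟨i⟩ := h
  exact noDouble.congr i.symm

end Cfsg.Agent.KFacts.MulSpor.CoThree

end
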