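import Cfsg.Agent.KFacts.MulSmall
import Cfsg.Agent.SporadicStructure.M11InvPerms
import Cfsg.Agent.SporadicStructure.M24El
import Cfsg.Agent.S0387
import Cfsg.Prelude.Def_Spor_Mathieu
import Cfsg.Agent.SporadicB.J1.Main
import Cfsg.Agent.J4.Upper
import Cfsg.Agent.J4.Simple
import Cfsg.Agent.J4.Dvd
import Cfsg.Agent.KFacts.MulM24
import Cfsg.Agent.J4.Invol
import Cfsg.Agent.J4Type.FinalHom
import Cfsg.Agent.KFacts.MulDef
import Cfsg.Agent.KFacts.MulCov

-- merged: Cfsg.Agent.KFacts.MulM11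
section

/-!
# The 2-part of the Schur multiplier of `M11` is trivial
-/

set_option autoImplicit false

open scoped Pointwise

namespace Cfsg.Agent.KFacts.MulM11

open Cfsg Cfsg.Agent.SporadicA.GolayBase Cfsg.Agent.SporadicA.GolayPerm
open Cfsg.Agent.SporadicStructure.M24El
open Cfsg.Agent.SporadicStructure.M11InvPerms (dd dd_mem qrWord_eq)
open Cfsg.Agent.KFacts.MulCov

theorem squareDodecad_eq : Spor.squareDodecad = dd := by
  unfold Spor.squareDodecad dd
  rw [qrWord_eq]

/-- The order of `Spor.M11`. -/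
theorem card_M11 : Nat.card Spor.M11 = 7920 := by
  have h0 : (some 0 : GolayPt) ∈ Spor.squareDodecad := by
    rw [squareDodecad_eq]; decide +kernel
  have hd : Spor.squareDodecad ∈ dodecads := by rw [squareDodecad_eq]; exact dd_mem
  rw [← Cfsg.Agent.S0387.result _ hd _ h0]
  apply Nat.card_congr
  refine
    { toFun := fun g => ⟨⟨g.1, (Subgroup.mem_inf.1 (Subgroup.mem_inf.1 g.2).1).1⟩, Subgroup.mem_inf.2
        ⟨(Subgroup.mem_inf.1 (Subgroup.mem_inf.1 g.2).1).2, (Subgroup.mem_inf.1 g.2).2⟩⟩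
      invFun := fun x => ⟨((x : Cfsg.M24) : Equiv.Perm GolayPt),
        Subgroup.mem_inf.2 ⟨Subgroup.mem_inf.2 ⟨x.1.2, (Subgroup.mem_inf.1 x.2).1⟩, (Subgroup.mem_inf.1 x.2).2⟩⟩
      left_inv := fun _ => rfl
      right_inv := fun _ => rfl }

/-- the mask of the dodecad -/
def ddm : ℕ := 340831

theorem dd_eq : dd = fin ddm := by
  ext p
  revert p
  decide +kernel

/-- whether the packed permutation lies in `M11` -/
def ok11 (P : ℕ) : Bool := ok P && Nat.beq (pimg P ddm) ddm && Nat.beq (papp P 0) 0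

theorem ok_of_ok11 {P : ℕ} (h : ok11 P = true) : ok P = true := by
  unfold ok11 at h
  rw [Bool.and_eq_true, Bool.and_eq_true] at h
  exact h.1.1

theorem mem_M11 {P : ℕ} (h : ok11 P = true) : (el P : Equiv.Perm GolayPt) ∈ Spor.M11 := by
  have h' := h
  unfold ok11 at h
  rw [Bool.and_eq_true, Bool.and_eq_true] at h
  obtain ⟨⟨h1, h2⟩, h3⟩ := h
  refine Subgroup.mem_inf.2 ⟨Subgroup.mem_inf.2 ⟨(el P).2, ?_⟩, ?_⟩
  · rw [MulAction.mem_stabilizer_iff, squareDodecad_eq, dd_eq, ← coe_smul_finset, el_smul_fin h1,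
      Nat.eq_of_beq_eq_true h2]
  · rw [MulAction.mem_stabilizer_iff]
    have h4 := el_smul_pt h1 (some 0 : GolayPt)
    have h5 : idx (some 0 : GolayPt) = 0 := by decide
    rw [h5, Nat.eq_of_beq_eq_true h3] at h4
    exact h4

/-- the element of `M11` -/
noncomputable def e (P : ℕ) (h : ok11 P = true) : Spor.M11 := ⟨el P, mem_M11 h⟩

def ι : Spor.M11 →* M24 := Subgroup.inclusion (inf_le_left.trans inf_le_left)

theorem ι_injective : Function.Injective ι := Subgroup.inclusion_injective _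

theorem ι_e (P : ℕ) (h : ok11 P = true) : ι (e P h) = el P := rfl

/-! ### Data -/

def Pr : ℕ := 233950865888990746377447415904013344
def Pri : ℕ := 606675048206788974183023727349926944
def Ps : ℕ := 735500604421669808992593446508235808
def Pg : ℕ := 235742061483406767849477376128910432
def Pgi : ℕ := 731722996265023435542964160459476032
def Pk : ℕ := 944576703234065857180591671912828960

theorem ok_r : ok11 Pr = true := by decide +kernel
theorem ok_s : ok11 Ps = true := by decide +kernel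
theorem ok_g : ok11 Pg = true := by decide +kernel
theorem ok_k : ok11 Pk = true := by decide +kernel

def gl : List ℕ := [Pr, Ps, Pg, Pk]

theorem gl_ok : ∀ P ∈ gl, ok P = true := by decide +kernel

noncomputable def r : Spor.M11 := e Pr ok_r
noncomputable def s : Spor.M11 := e Ps ok_s
noncomputable def g : Spor.M11 := e Pg ok_g
noncomputable def k : Spor.M11 := e Pk ok_k

theorem words {w w' : List ℕ} (h : prodW gl w = prodW gl w') :
    (w.map fun i => el (gl.getD i idP)).prod = (w'.map fun i => el (gl.getD i idP)).prod := by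
  rw [← el_prodW gl_ok, ← el_prodW gl_ok, h]

theorem r8 : r ^ 8 = 1 := by
  apply ι_injective
  rw [map_pow, map_one]
  have h := words (w := [0, 0, 0, 0, 0, 0, 0, 0]) (w' := []) (by decide +kernel)
  simp only [gl, List.map_cons, List.map_nil, List.prod_cons, List.prod_nil,
    List.getD_cons_zero, List.getD_cons_succ, mul_one] at h
  show (el Pr) ^ 8 = 1
  rw [← h]
  simp only [pow_succ, pow_zero, one_mul, mul_assoc]

theorem r4 : r ^ 4 ≠ 1 := by
  intro h
  have h1 := congrArg ι h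
  rw [map_pow, map_one] at h1
  have h0 : (el Pr) ^ 4 = el (prodW gl [0, 0, 0, 0]) := by
    rw [el_prodW gl_ok]
    simp only [gl, List.map_cons, List.map_nil, List.prod_cons, List.prod_nil,
      List.getD_cons_zero, List.getD_cons_succ, mul_one]
    simp only [pow_succ, pow_zero, one_mul, mul_assoc]
  have h2 : el (prodW gl [0, 0, 0, 0]) = 1 := by rw [← h0]; exact h1
  have h3 := congrArg (fun g : M24 => idx (g • pt 4)) h2
  simp only [one_smul] at h3
  rw [idx_el_smul (ok_prodW gl_ok _)] at h3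
  revert h3
  decide +kernel

theorem s2 : s * s = 1 := by
  apply ι_injective
  rw [map_mul, map_one]
  have h := words (w := [1, 1]) (w' := []) (by decide +kernel)
  simp only [gl, List.map_cons, List.map_nil, List.prod_cons, List.prod_nil,
    List.getD_cons_zero, List.getD_cons_succ, mul_one] at h
  exact h

theorem sr : s * r * s⁻¹ = r ^ 3 := by
  rw [mul_inv_eq_iff_eq_mul]
  apply ι_injective
  rw [map_mul, map_mul, map_pow]
  have h := words (w := [1, 0]) (w' := [0, 0, 0, 1]) (by decide +kernel)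
  simp only [gl, List.map_cons, List.map_nil, List.prod_cons, List.prod_nil,
    List.getD_cons_zero, List.getD_cons_succ, mul_one] at h
  show el Ps * el Pr = (el Pr) ^ 3 * el Ps
  rw [h]
  simp only [pow_succ, pow_zero, one_mul, mul_assoc]

theorem g3 : g ^ 3 = 1 := by
  apply ι_injective
  rw [map_pow, map_one]
  have h := words (w := [2, 2, 2]) (w' := []) (by decide +kernel)
  simp only [gl, List.map_cons, List.map_nil, List.prod_cons, List.prod_nil,
    List.getD_cons_zero, List.getD_cons_succ, mul_one] at h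
  show (el Pg) ^ 3 = 1
  rw [← h]
  simp only [pow_succ, pow_zero, one_mul, mul_assoc]

theorem gr : g * r ^ 2 * g⁻¹ = s * r := by
  rw [mul_inv_eq_iff_eq_mul]
  apply ι_injective
  rw [map_mul, map_mul, map_mul, map_pow]
  have h := words (w := [2, 0, 0]) (w' := [1, 0, 2]) (by decide +kernel)
  simp only [gl, List.map_cons, List.map_nil, List.prod_cons, List.prod_nil,
    List.getD_cons_zero, List.getD_cons_succ, mul_one] at h
  show el Pg * (el Pr) ^ 2 = el Ps * el Pr * el Pg
  rw [mul_assoc, ← h]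
  simp only [pow_succ, pow_zero, one_mul]

theorem kr : k * r ^ 4 * k⁻¹ = s := by
  rw [mul_inv_eq_iff_eq_mul]
  apply ι_injective
  rw [map_mul, map_mul, map_pow]
  have h := words (w := [3, 0, 0, 0, 0]) (w' := [1, 3]) (by decide +kernel)
  simp only [gl, List.map_cons, List.map_nil, List.prod_cons, List.prod_nil,
    List.getD_cons_zero, List.getD_cons_succ, mul_one] at h
  show el Pk * (el Pr) ^ 4 = el Ps * el Pk
  rw [← h]
  simp only [pow_succ, pow_zero, one_mul, mul_assoc]

theorem not_cov {L : Type*} [Group L] [Finite L] (π : L →* Spor.M11) (c : L) : ¬ Cov π c := by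
  intro h
  exact MulSmall.false_of_SD16 h r8 r4 s2 sr g3 gr kr (m := 495) (by rw [card_M11]) (by decide)

/-- **The centre of a perfect central extension of `M11` has odd order.** -/
theorem odd_center {K : Type*} [Group K] [Finite K] (hp : commutator K = ⊤)
    (hX : Cfsg.Spor.IsoM11 (K ⧸ Subgroup.center K)) : ¬ 2 ∣ Nat.card (Subgroup.center K) := by
  obtain ⟨e⟩ := hX
  exact odd_card_center (fun L _ _ π c => not_cov π c) hp e

end Cfsg.Agent.KFacts.MulM11

end

-- merged: Cfsg.Agent.KFacts.MulJ1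
section

/-!
# The 2-part of the Schur multiplier of `J1` is trivial
-/

set_option autoImplicit false

namespace Cfsg.Agent.KFacts.MulJ1

open Cfsg.Spor Cfsg.Agent.SporadicB.J1.Main Cfsg.Agent.SporadicB.J1.Mat Cfsg.Agent.SporadicB.J1.Data
open Cfsg.Agent.KFacts.MulCov

/-- words of the seven involutions -/
def ws : ℕ → List ℕ
  | 0 => [3, 0, 1, 0]
  | 1 => [0, 0, 0, 3, 0, 1, 0, 2, 2, 2]
  | 2 => [2, 3, 0, 1, 0, 0]
  | 3 => [0, 0, 3, 0, 1, 0, 2, 2]
  | 4 => [2, 2, 3, 0, 1, 0, 0, 0]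
  | 5 => [0, 3, 0, 1, 0, 2]
  | _ => [2, 2, 2, 3, 0, 1, 0, 0, 0, 0]

/-- the involutions -/
def a (i : ℕ) : J1 := ev (ws i)

/-- the element of order seven -/
def g : J1 := ev [0, 0, 0]

theorem hc0 : ∀ i < 6, mulC (evC [0, 0, 0]) (evC (ws i)) = mulC (evC (ws (i + 1))) (evC [0, 0, 0]) := by
  decide +kernel

theorem hc : ∀ i < 6, g * a i = a (i + 1) * g := fun i hi =>
  ((rep_ev _).mul (rep_ev _)).eq ((rep_ev _).mul (rep_ev _)) (hc0 i hi)

theorem mul_eq {i j k : ℕ} (h : mulC (evC (ws i)) (evC (ws j)) = evC (ws k)) : a i * a j = a k :=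
  ((rep_ev _).mul (rep_ev _)).eq (rep_ev _) h

theorem sq : a 0 * a 0 = 1 := ((rep_ev _).mul (rep_ev _)).eq Rep.one (by decide +kernel)

theorem ne : a 0 ≠ 1 := (rep_ev _).ne Rep.one (by decide +kernel)

theorem card_J1 : Nat.card J1 = 8 * 21945 := by rw [isJ1.2]

theorem not_cov {L : Type*} [Group L] [Finite L] (π : L →* J1) (c : L) : ¬ Cov π c := by
  intro h
  have : Finite J1 := Nat.finite_of_card_ne_zero (by rw [card_J1]; norm_num)
  exact MulSmall.false_of_singer h a hc sq (mul_eq (k := 3) (by decide +kernel)) (mul_eq (k := 6) (by decide +kernel))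
    (mul_eq (k := 4) (by decide +kernel)) (mul_eq (k := 5) (by decide +kernel)) ne card_J1 (by decide)

/-- **The centre of a perfect central extension of `J1` has odd order.** -/
theorem odd_center {K : Type*} [Group K] [Finite K] (hp : commutator K = ⊤)
    (hX : Cfsg.Spor.IsoJ1 (K ⧸ Subgroup.center K)) : ¬ 2 ∣ Nat.card (Subgroup.center K) := by
  obtain ⟨e⟩ := hX
  exact odd_card_center (fun L _ _ π c => not_cov π c) hp e

end Cfsg.Agent.KFacts.MulJ1

end

-- merged: Cfsg.Agent.J4.Final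
section

/-!
# The order and the simplicity of the presented group J4

Everything unconditional: the presented group has order `86775571046077562880`, is simple, and its
112-dimensional representation over `F2` is faithful.
-/

set_option autoImplicit false

namespace Cfsg.Agent.J4.Final

open Cfsg.Agent.J4 Cfsg.Agent.J4.Rep112

theorem isSimple_card : IsSimpleGroup Cfsg.Spor.J4 ∧ Nat.card Cfsg.Spor.J4 = 86775571046077562880 :=
  Cfsg.Agent.J4.Simple.isJ4_of_le Cfsg.Agent.J4.Upper.card_J4_le.1 Cfsg.Agent.J4.Dvd.dvd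

instance isSimpleGroup_J4 : IsSimpleGroup Cfsg.Spor.J4 := isSimple_card.1

theorem card_J4 : Nat.card Cfsg.Spor.J4 = 86775571046077562880 := isSimple_card.2

theorem rho_injective : Function.Injective rho := by
  have h1 : Nat.card rho.range ≤ Nat.card Cfsg.Spor.J4 :=
    Nat.card_le_card_of_surjective rho.rangeRestrict rho.rangeRestrict_surjective
  have : Finite rho.range := Finite.of_surjective rho.rangeRestrict rho.rangeRestrict_surjective
  have h2 : 86775571046077562880 ≤ Nat.card rho.range := Nat.le_of_dvd Nat.card_pos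
    Cfsg.Agent.J4.Dvd.dvd
  have h4 : Nat.card rho.range = Nat.card Cfsg.Spor.J4 := by
    have := card_J4
    omega
  have h5 : Function.Bijective rho.rangeRestrict :=
    (Nat.bijective_iff_surjective_and_card _).mpr ⟨rho.rangeRestrict_surjective, h4.symm⟩
  intro a b hab
  apply h5.1
  exact Subtype.ext hab

/-- The presented group is isomorphic to its image in `GL(112, 2)`. -/
noncomputable def equivRange : Cfsg.Spor.J4 ≃* rho.range := MonoidHom.ofInjective rho_injective

theorem card_range : Nat.card rho.range = 86775571046077562880 := by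
  rw [← Nat.card_congr equivRange.toEquiv, card_J4]

theorem isSimpleGroup_range : IsSimpleGroup rho.range := by
  have : Nontrivial rho.range := equivRange.symm.toEquiv.nontrivial
  exact IsSimpleGroup.isSimpleGroup_of_surjective equivRange.toMonoidHom equivRange.surjective

end Cfsg.Agent.J4.Final

end

-- merged: Cfsg.Agent.KFacts.MulJ4
section

/-!
# The 2-part of the Schur multiplier of `J4` is trivial

The subgroup `M24 = ⟨x, y⟩` lifts, every involution is conjugate to one of `M24`, and the lift of `t` satisfies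
the remaining relations of the presentation.
-/

set_option autoImplicit false

namespace Cfsg.Agent.KFacts.MulJ4

open Cfsg Cfsg.Agent.J4.Rep112 Cfsg.Agent.J4.M24Hom Cfsg.Agent.J4.M24Pres Cfsg.Agent.J4.Pres
open Cfsg.Agent.J4.M24InvolData Cfsg.Agent.J4.ClassesData Cfsg.Agent.J4.Classes Cfsg.Agent.J4.Invol
open Cfsg.Agent.J4.Beta Cfsg.Agent.J4.GroupLemmas Cfsg.Agent.J4.LowerData Cfsg.Agent.J4.Lower
open Cfsg.Agent.Lib Cfsg.Agent.Lib.F2MatGroup
open Cfsg.Agent.SporadicStructure.M24El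
open Cfsg.Agent.KFacts.MulCov

/-! ### The two classes of involutions meet `M24` -/

/-- the conjugation behind a row of `reps` -/
theorem conj_of_rep {im v : ℕ} {r : ℕ × ℕ × ℕ × ℕ × List ℕ × List ℕ × ℕ} (h : repOk eqsC im v r = true) :
    ∃ g ∈ rho.range, g * (beta qs v * getG LC im) * g⁻¹ = getG LC r.2.2.2.2.2.2 := by
  unfold repOk at h
  rw [Bool.and_eq_true, Bool.and_eq_true, Bool.and_eq_true, List.contains_iff_mem,
    List.contains_iff_mem, List.contains_iff_mem, Bool.or_eq_true, Nat.beq_eq, Nat.beq_eq] at h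
  obtain ⟨⟨⟨h1, h2⟩, h3⟩, h4⟩ := h
  have e1 := eqC _ h1
  have e2 := eqC _ h2
  have e3 := eqC _ h3
  simp only [evG_append, evG_single, abs_bw (L := LC) qs_length getG_LC] at e1
  simp only [evG_append, evG_cons, evG_nil, mul_one] at e2
  simp only [evG_append, evG_nil] at e3
  rw [← e1]
  have hp : getG LC r.2.2.2.1 ∈ rho.range := getG_mem _ LC_mem _
  have hw : evG LC r.2.2.2.2.2.1 ∈ rho.range := evG_mem _ LC_mem _
  have hw' : evG LC r.2.2.2.2.1 = (evG LC r.2.2.2.2.2.1)⁻¹ := eq_inv_of_mul_eq_one_left e3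
  rw [hw'] at e2
  generalize getG LC r.2.2.1 = u at *
  generalize getG LC r.2.2.2.1 = p at *
  generalize evG LC r.2.2.2.2.2.1 = w at *
  refine ⟨w * p⁻¹, mul_mem hw (inv_mem hp), ?_⟩
  have : w * p⁻¹ * u * (w * p⁻¹)⁻¹ = w * p⁻¹ * (u * p) * w⁻¹ := by group
  rw [this, e2]; group

def row1 : ℕ × ℕ × ℕ × ℕ × List ℕ × List ℕ × ℕ := (1, 0, 39, 36, [58, 56], [57, 58], 52)
def row2 : ℕ × ℕ × ℕ × ℕ × List ℕ × List ℕ × ℕ := (2, 0, 7, 4, [55, 56, 58, 56, 58], [58, 57, 58, 57, 55], 40)

theorem row1_ok : repOk eqsC 41 0 row1 = true := by decide +kernel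
theorem row2_ok : repOk eqsC 55 0 row2 = true := by decide +kernel

theorem inj : Function.Injective rho := Cfsg.Agent.J4.Final.rho_injective

theorem isConj_of_range {a b : Cfsg.Spor.J4} (h : ∃ g ∈ rho.range, g * rho a * g⁻¹ = rho b) : IsConj a b := by
  obtain ⟨_, ⟨g, rfl⟩, hg⟩ := h
  refine isConj_iff.2 ⟨g, inj ?_⟩
  rw [map_mul, map_mul, map_inv, hg]

theorem conj_s : IsConj (phi (el P1)) s := by
  apply isConj_of_range
  obtain ⟨g, hg, h⟩ := conj_of_rep row1_ok
  refine ⟨g, hg, ?_⟩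
  have h1 : getG LC row1.2.2.2.2.2.2 = beta qs 1024 := getG_52
  rw [h1, getG_41, beta_zero, one_mul] at h
  rw [rho_s, ← h]
  rfl

theorem conj_d : IsConj (phi XM) d := by
  apply isConj_of_range
  obtain ⟨g, hg, h⟩ := conj_of_rep row2_ok
  refine ⟨g, hg, ?_⟩
  have h1 : getG LC row2.2.2.2.2.2.2 = beta qs 5 := getG_40
  rw [h1, getX, beta_zero, one_mul] at h
  rw [rho_d, ← h, phi_X]

theorem h22 : ¬ 2 ^ 22 ∣ Nat.card rho.range := by
  rw [Cfsg.Agent.J4.Final.card_range]
  decide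

/-! ### The lift -/

/-- the word of `x * gb` -/
def wgb : List ℕ := [0, 1, 0, 1, 0, 2, 0, 2, 0, 1, 0, 1, 0, 1]

theorem xgb_pow : (XM * Cfsg.Agent.J4.TrioAll.gb) ^ 21 = 1 := by
  have h1 : XM * Cfsg.Agent.J4.TrioAll.gb = (wgb.map fun i => el (MulM24.gl.getD i idP)).prod := by
    unfold Cfsg.Agent.J4.TrioAll.gb wgb
    simp only [MulM24.gl, List.map_cons, List.map_nil, List.prod_cons, List.prod_nil, List.getD_cons_zero,
      List.getD_cons_succ, mul_one]
    rw [← MulM24.XM_eq, ← MulM24.YM_eq, ← MulM24.YMI_eq]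
    simp only [pow_succ, pow_zero, one_mul, mul_assoc]
  have h2 := MulM24.word_eq ((List.replicate 21 wgb).flatten) (R := idP) (by decide +kernel)
  rw [List.map_flatten, List.map_replicate, List.prod_flatten, List.map_replicate, List.prod_replicate, el_idP] at h2
  rw [h1, h2]

theorem gb_mem : phi Cfsg.Agent.J4.TrioAll.gb ∈
    Subgroup.closure {u : Cfsg.Spor.J4 | u * t = t * u ∧ (u * u = 1 ∨ ∃ n : ℕ, Odd n ∧ u ^ n = 1)} := by
  have ht := Cfsg.Agent.J4.Upper.trel
  have hX : XM * XM = 1 := by rw [← pow_two]; exact rels_XYM.r1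
  have e : Cfsg.Agent.J4.TrioAll.gb = XM * (XM * Cfsg.Agent.J4.TrioAll.gb) := by rw [← mul_assoc, hX, one_mul]
  rw [e, map_mul]
  refine mul_mem (Subgroup.subset_closure ⟨ht.cx.symm.eq, Or.inl ?_⟩) (Subgroup.subset_closure ⟨?_, Or.inr ⟨21, by decide, ?_⟩⟩)
  · rw [← map_mul, hX, map_one]
  · rw [map_mul]
    exact (ht.cx.symm.mul_left ht.cz.symm).eq
  · rw [← map_pow]
    rw [xgb_pow, map_one]

/-- **Every central extension of `J4` by a group of order two splits.** -/
theorem exists_section {L : Type*} [Group L] {π : L →* Cfsg.Spor.J4} {c : L} (h : Ext π c) :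
    ∃ s : Cfsg.Spor.J4 →* L, ∀ g, π (s g) = g := by
  obtain ⟨ψ, hψ⟩ := MulM24.exists_lift h phi
  -- involutions
  have good : ∀ u : M24, u * u = 1 → Good π (phi u) := by
    intro u hu x hx
    rw [h.mul_self_eq (x := x) (y := ψ u) (by rw [hx, hψ]), ← map_mul, hu, map_one]
  have hX : XM * XM = 1 := by rw [← pow_two]; exact rels_XYM.r1
  have sq : ∀ u : M24, u * u = 1 → phi u * phi u = 1 := fun u hu => by rw [← map_mul, hu, map_one]
  have gs : Good π s := Good.of_isConj h (good _ MulM24.P1_sq) (sq _ MulM24.P1_sq) conj_s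
  have gd : Good π d := Good.of_isConj h (good _ hX) (sq _ hX) conj_d
  have ss : s * s = 1 := by
    obtain ⟨g, hg⟩ := isConj_iff.1 conj_s
    rw [← hg]
    calc g * phi (el P1) * g⁻¹ * (g * phi (el P1) * g⁻¹) = g * (phi (el P1) * phi (el P1)) * g⁻¹ := by group
      _ = 1 := by rw [sq _ MulM24.P1_sq]; group
  have dd : d * d = 1 := by
    obtain ⟨g, hg⟩ := isConj_iff.1 conj_d
    rw [← hg]
    calc g * phi XM * g⁻¹ * (g * phi XM * g⁻¹) = g * (phi XM * phi XM) * g⁻¹ := by group
      _ = 1 := by rw [sq _ hX]; group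
  have hn : NoSq c := by
    apply h.noSq
    intro a ha ha1
    rcases invol inj h22 a ha ha1 with h1 | h1
    · exact Good.of_isConj h gs ss h1.symm
    · exact Good.of_isConj h gd dd h1.symm
  -- the lift of `t`
  have hT := all_rels
  obtain ⟨-, -, -, -, -, -, -, ht2, htw, htx, hr1, hr2⟩ := hT
  have ht : t * t = 1 := by rw [← pow_two]; exact ht2
  obtain ⟨τ₀, hτ₀⟩ := h.surj t
  have hx : π (ψ XM) = x := by rw [hψ, phi_X]
  have hy : π (ψ YM) = y := by rw [hψ, phi_Y]
  obtain ⟨τ, hτ, hA⟩ : ∃ τ, π τ = t ∧ (ψ YM * ((ψ YM * ψ XM * ((ψ YM)⁻¹) * ψ XM * ψ YM * ψ XM * ((ψ YM)⁻¹) * ψ XM)⁻¹ *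
      τ * (ψ YM * ψ XM * ((ψ YM)⁻¹) * ψ XM * ψ YM * ψ XM * ((ψ YM)⁻¹) * ψ XM))) ^ 3 = 1 := by
    set w := ψ YM * ψ XM * ((ψ YM)⁻¹) * ψ XM * ψ YM * ψ XM * ((ψ YM)⁻¹) * ψ XM with hw
    have h1 : π ((ψ YM * (w⁻¹ * τ₀ * w)) ^ 3) = 1 := by
      rw [hw]
      simp only [map_mul, map_pow, map_inv, hx, hy, hτ₀]
      exact hr1
    rcases (h.ker _).1 h1 with h2 | h2
    · exact ⟨τ₀, hτ₀, h2⟩
    · refine ⟨τ₀ * c, by rw [map_mul, hτ₀, h.map_c, mul_one], ?_⟩
      have e : ψ YM * (w⁻¹ * (τ₀ * c) * w) = (ψ YM * (w⁻¹ * τ₀ * w)) * c := by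
        rw [mul_assoc w⁻¹ (τ₀ * c) w, mul_assoc τ₀ c w, h.cen w]; group
      have hc : Commute (ψ YM * (w⁻¹ * τ₀ * w)) c := (h.cen _).symm
      rw [e, hc.mul_pow, h2, h.pow_c_odd (by decide), h.sq]
  have hτ2 : τ * τ = 1 := h.sq_one hn (by rw [hτ]; exact ht)
  have htx' : t * x = x * t := by
    have h1 : t⁻¹ * x⁻¹ * t * x = (x * t)⁻¹ * (t * x) := by group
    rw [h1] at htx
    exact (inv_mul_eq_one.1 htx).symm
  have hcx : τ * ψ XM = ψ XM * τ := by
    apply h.comm_of_invol hn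
    · rw [hτ]; exact ht
    · rw [hψ]; exact sq _ hX
    · rw [hτ, hx]; exact htx'
  have hcw : ψ Cfsg.Agent.J4.TrioAll.gb * τ = τ * ψ Cfsg.Agent.J4.TrioAll.gb := by
    apply h.comm_of_closure hn
    · rw [hτ]; exact ht
    · rw [hψ, hτ]; exact gb_mem
  have hR : Cfsg.Agent.J4Type.FinalHom.TRels (ψ XM) (ψ YM) τ := by
    refine ⟨by rw [pow_two]; exact hτ2, ?_, ?_, hA, ?_⟩
    · have e : ψ Cfsg.Agent.J4.TrioAll.gb = ψ YM * ψ XM * ψ YM * ((ψ XM * (ψ YM)⁻¹) ^ 2) * ((ψ XM * ψ YM) ^ 3) := by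
        unfold Cfsg.Agent.J4.TrioAll.gb
        simp only [map_mul, map_pow, map_inv]
      rw [← e]
      calc τ⁻¹ * (ψ Cfsg.Agent.J4.TrioAll.gb)⁻¹ * τ * ψ Cfsg.Agent.J4.TrioAll.gb
          = τ⁻¹ * (ψ Cfsg.Agent.J4.TrioAll.gb)⁻¹ * (τ * ψ Cfsg.Agent.J4.TrioAll.gb) := by group
        _ = 1 := by rw [← hcw]; group
    · calc τ⁻¹ * (ψ XM)⁻¹ * τ * ψ XM = τ⁻¹ * (ψ XM)⁻¹ * (τ * ψ XM) := by group
        _ = 1 := by rw [hcx]; group
    · have := h.pow_even hn (k := 1) (x := ((ψ YM * ψ XM * ψ YM * ψ XM * ψ YM * ψ XM * ψ YM) ^ 3) * τ *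
        ((((ψ XM * ψ YM) ^ 3) * ψ YM * ((ψ XM * ψ YM) ^ 6) * ψ YM)⁻¹ * τ *
          (((ψ XM * ψ YM) ^ 3) * ψ YM * ((ψ XM * ψ YM) ^ 6) * ψ YM))) (by
        simp only [map_mul, map_pow, map_inv, hx, hy, hτ]
        exact hr2)
      exact this
  obtain ⟨f, hf, hft⟩ := Cfsg.Agent.J4Type.FinalHom.exists_hom ψ τ hR
  refine ⟨f, fun g => ?_⟩
  have h1 : π.comp f = MonoidHom.id _ := by
    apply PresentedGroup.ext
    rintro (_ | _ | _)
    · show π (f x) = x
      rw [← phi_X, hf, hψ]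
    · show π (f y) = y
      rw [← phi_Y, hf, hψ]
    · show π (f t) = t
      rw [hft, hτ]
  exact DFunLike.congr_fun h1 g

theorem not_cov {L : Type*} [Group L] [Finite L] (π : L →* Cfsg.Spor.J4) (c : L) : ¬ Cov π c := by
  intro h
  obtain ⟨s, hs⟩ := exists_section h.toExt
  exact h.false_of_section s hs

/-- **The centre of a perfect central extension of `J4` has odd order.** -/
theorem odd_center {K : Type*} [Group K] [Finite K] (hp : commutator K = ⊤)
    (hX : Cfsg.Spor.IsoJ4 (K ⧸ Subgroup.center K)) : ¬ 2 ∣ Nat.card (Subgroup.center K) := by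
  obtain ⟨e⟩ := hX
  exact odd_card_center (fun L _ _ π c => not_cov π c) hp e

end Cfsg.Agent.KFacts.MulJ4

end

-- merged: Cfsg.Agent.KFacts.MulSpor.NoDbl
section

/-!
# `NoDouble` (form of `KFacts/MulDef.lean`) for `M11`, `J1`, `M24`, `J4`
-/

set_option autoImplicit false

namespace Cfsg.Agent.KFacts.MulSpor.NoDbl

open Cfsg.Agent.KFacts.MulCov Cfsg.Agent.KFacts.MulDef

universe v

/-- the form `NoDouble` from the form `¬ Cov` -/
theorem noDouble_of_not_cov {X : Type v} [Group X]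
    (h : ∀ (L : Type) [Group L] [Finite L] (π : L →* X) (c : L), ¬ Cov π c) : NoDouble X :=
  fun L _ _ π c hd => h L π c ⟨⟨hd.ne, hd.sq, hd.cen, hd.surj, hd.ker⟩, hd.perf⟩

theorem M11 : NoDouble Spor.M11 := noDouble_of_not_cov fun _ _ _ π c => MulM11.not_cov π c

theorem J1 : NoDouble Spor.J1 := noDouble_of_not_cov fun _ _ _ π c => MulJ1.not_cov π c

theorem M24 : NoDouble Cfsg.M24 := noDouble_of_not_cov fun _ _ _ π c => MulM24.not_cov π c

theorem J4 : NoDouble Spor.J4 := noDouble_of_not_cov fun _ _ _ π c => MulJ4.not_cov π c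

end Cfsg.Agent.KFacts.MulSpor.NoDbl

end
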